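import Cfsg.Agent.H973.Cov.ON
import Cfsg.Agent.H966.Der.HN
import Cfsg.Agent.H438.Fpr.HNB
import Cfsg.Agent.S2062
import Cfsg.Agent.H713.Spor.Tool
import Cfsg.Agent.H845.HNSeven
import Cfsg.Agent.H348.Der.Num
import Cfsg.Agent.H257.El.TopC
import Cfsg.Agent.H973.SepHN.Split

/-!
# S2499 (normal 2-coverings): the Harada-Norton group (helper973)

Elements of order 19; a proper subgroup whose order is divisible by 11 does not contain elements of orders 25 and 35.
-/

set_option autoImplicit false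
set_option maxRecDepth 100000

namespace Cfsg.Agent.H973.Cov

open Cfsg Subgroup Cfsg.Agent.H278.Cov Cfsg.Agent.OrdDiv

theorem card_mulAut_m22 {X : Type*} [Group X] [Finite X] (h : Spor.IsoM22 X) : Nat.card (MulAut X) ∣ 2 * Nat.card X := by
  obtain ⟨e⟩ := h
  have h1 := H713.card_mulAut_dvd (S := Spor.M22) (o := 2) (by rw [Cfsg.Agent.S2062.result])
  rw [Nat.card_congr e.toEquiv, Nat.card_congr (MulAut.congr e).toEquiv]
  exact h1

namespace HN

open Cfsg.Agent.H940 Cfsg.Agent.H940.Eng Cfsg.Agent.H940.Eng.D Cfsg.Agent.H257.El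
open Cfsg.Agent.H438.Fpr.HN (loc ctx)
open Cfsg.Agent.H966.Der.HN (l valid_l no_11 exists_ord)
open Cfsg.Agent.H966.Der (mem_of_chkSurv index_alt no_25)

abbrev G : Type := Spor.HN

theorem chkA : ((divsT [(2, 14), (3, 6), (5, 6), (7, 1)]).all fun d => Nat.beq (209 * d) n_hn ||
    (false || bad l_hn n_hn [] 60 loc o_hn (209 * d))) = true := by
  decide +kernel

theorem chkB : ((divsT [(2, 14), (3, 6), (5, 5), (7, 1), (11, 1)]).all fun d => Nat.beq (95 * d) n_hn ||
    (Nat.beq (95 * d) 3420 || bad l_hn n_hn [] 60 loc o_hn (95 * d))) = true := by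
  decide +kernel

/-- the test of `chkC` -/
def tC (d : ℕ) : Bool := Nat.beq (1925 * d) n_hn ||
    (!(Nat.beq ((1925 * d) % 625) 0) || bad l_hn n_hn [] 60 loc o_hn (1925 * d))

theorem chkC_0 : ((divsT [(3, 6), (5, 4), (19, 1)]).all fun d => tC (2 ^ 0 * d)) = true := by decide +kernel

theorem chkC_1 : ((divsT [(3, 6), (5, 4), (19, 1)]).all fun d => tC (2 ^ 1 * d)) = true := by decide +kernel

theorem chkC_2 : ((divsT [(3, 6), (5, 4), (19, 1)]).all fun d => tC (2 ^ 2 * d)) = true := by decide +kernel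

theorem chkC_3 : ((divsT [(3, 6), (5, 4), (19, 1)]).all fun d => tC (2 ^ 3 * d)) = true := by decide +kernel

theorem chkC_4 : ((divsT [(3, 6), (5, 4), (19, 1)]).all fun d => tC (2 ^ 4 * d)) = true := by decide +kernel

theorem chkC_5 : ((divsT [(3, 6), (5, 4), (19, 1)]).all fun d => tC (2 ^ 5 * d)) = true := by decide +kernel

theorem chkC_6 : ((divsT [(3, 6), (5, 4), (19, 1)]).all fun d => tC (2 ^ 6 * d)) = true := by decide +kernel

theorem chkC_7 : ((divsT [(3, 6), (5, 4), (19, 1)]).all fun d => tC (2 ^ 7 * d)) = true := by decide +kernel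

theorem chkC_8 : ((divsT [(3, 6), (5, 4), (19, 1)]).all fun d => tC (2 ^ 8 * d)) = true := by decide +kernel

theorem chkC_9 : ((divsT [(3, 6), (5, 4), (19, 1)]).all fun d => tC (2 ^ 9 * d)) = true := by decide +kernel

theorem chkC_10 : ((divsT [(3, 6), (5, 4), (19, 1)]).all fun d => tC (2 ^ 10 * d)) = true := by decide +kernel

theorem chkC_11 : ((divsT [(3, 6), (5, 4), (19, 1)]).all fun d => tC (2 ^ 11 * d)) = true := by decide +kernel

theorem chkC_12 : ((divsT [(3, 6), (5, 4), (19, 1)]).all fun d => tC (2 ^ 12 * d)) = true := by decide +kernel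

theorem chkC_13 : ((divsT [(3, 6), (5, 4), (19, 1)]).all fun d => tC (2 ^ 13 * d)) = true := by decide +kernel

theorem chkC_14 : ((divsT [(3, 6), (5, 4), (19, 1)]).all fun d => tC (2 ^ 14 * d)) = true := by decide +kernel

theorem chkC : ((divsT [(2, 14), (3, 6), (5, 4), (19, 1)]).all fun d => Nat.beq (1925 * d) n_hn ||
    (!(Nat.beq ((1925 * d) % 625) 0) || bad l_hn n_hn [] 60 loc o_hn (1925 * d))) = true := by
  refine Split.all_cons (P := tC) fun k hk => ?_
  interval_cases k
  · exact chkC_0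
  · exact chkC_1
  · exact chkC_2
  · exact chkC_3
  · exact chkC_4
  · exact chkC_5
  · exact chkC_6
  · exact chkC_7
  · exact chkC_8
  · exact chkC_9
  · exact chkC_10
  · exact chkC_11
  · exact chkC_12
  · exact chkC_13
  · exact chkC_14

/-- a proper subgroup of order divisible by 11 does not contain elements of orders 25 and 35 -/
theorem kill (B : Base) (known : H257.El.Known.{0}) {K : Subgroup G} (hK : K ≠ ⊤) (h11 : 11 ∣ Nat.card K) {u w : G}
    (hu : orderOf u = 25) (huK : u ∈ K) (hw : orderOf w = 35) (hwK : w ∈ K) : False := by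
  have c := ctx B
  have hfin := c.fin
  have := c.simple
  have h : Spor.IsoHN G := ⟨MulEquiv.refl _⟩
  have hc : Nat.card G = 273030912000000 := c.card
  have k25 : 25 ∣ Nat.card K := by
    have := Subgroup.orderOf_dvd_natCard K huK
    rwa [hu] at this
  have k35 : 35 ∣ Nat.card K := by
    have := Subgroup.orderOf_dvd_natCard K hwK
    rwa [hw] at this
  have k1925 : 1925 ∣ Nat.card K := by
    have h1 := Nat.lcm_dvd (Nat.lcm_dvd k25 k35) h11
    exact (by decide : 1925 ∣ Nat.lcm (Nat.lcm 25 35) 11).trans h1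
  have h625 : ¬ 5 ^ 4 ∣ Nat.card K := ON.not_dvd_of_beq (Cfsg.Agent.H348.Der.exhaust_dvd c 1925
    [(2, 14), (3, 6), (5, 4), (19, 1)] 60 (fun m => !(Nat.beq (m % 625) 0)) (by decide) (by decide) chkC hK k1925)
  have no33 : ∀ z : G, orderOf z ≠ 11 * 3 := no_11 h (by norm_num) (by norm_num)
  have no55 : ∀ z : G, orderOf z ≠ 11 * 5 := no_11 h (by norm_num) (by norm_num)
  have no77 : ∀ z : G, orderOf z ≠ 11 * 7 := no_11 h (by norm_num) (by norm_num)
  have S : Cfsg.Agent.H966.Der.Sit G 273030912000000 l 11 K :=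
    ⟨B.table, known, hc, valid_l, by norm_num, by norm_num, h11, hK⟩
  obtain ⟨O, hO, N, hT⟩ := S.exists_top
  have hNn := hT.normal
  have hd7 := S.dvd_simple hT (s := 7) (by norm_num) no77 (by decide +kernel) ((by norm_num : 7 ∣ 35).trans k35)
  have hna := Cfsg.Agent.H257.El.Sit.not_comm_of_dvd hT (by norm_num) (by norm_num) hd7
  have hcard : Nat.card O * (Nat.card N * N.index) = Nat.card K := by
    rw [Subgroup.card_mul_index N, mul_comm, card_quot_mul O]
  obtain ⟨g, hg, hr, hgc⟩ := S.exists_surv hT hna [7] (by simpa using hd7)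
  have hg' := mem_of_chkSurv (L := [.alt 11, .alt 12, .m22, .j1, .mcl, .hs]) (by decide +kernel) hg
  have hO7 : ¬ 7 ∣ Nat.card O := by
    intro h7
    have h1 : 7 ^ 2 ∣ 273030912000000 := by
      have h2 : 7 * 7 ∣ Nat.card O * (Nat.card N * N.index) := mul_dvd_mul h7 (hd7.trans (dvd_mul_right _ _))
      rw [hcard] at h2
      exact h2.trans S.dvd_n
    norm_num at h1
  have i7 : Nat.Coprime 7 N.index := by
    refine (Nat.Prime.coprime_iff_not_dvd (by norm_num)).2 fun h7 => ?_
    have h1 : 7 ^ 2 ∣ 273030912000000 := by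
      have h2 : 7 * 7 ∣ Nat.card O * (Nat.card N * N.index) := (mul_dvd_mul hd7 h7).trans (dvd_mul_left _ _)
      rw [hcard] at h2
      exact h2.trans S.dvd_n
    norm_num at h1
  have c7 : Nat.Coprime 7 (Nat.card O) := (Nat.Prime.coprime_iff_not_dvd (by norm_num)).2 hO7
  -- the 5-part
  have hO5 : ¬ 5 ∣ Nat.card O := by
    refine Cfsg.Agent.H966.Der.not_dvd_core' hT (by norm_num) (by norm_num) (Cfsg.Agent.H257.El.Sit.noR no55)
      fun b hb hd => ?_
    have h4 : b < 4 := by
      by_contra hcon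
      push Not at hcon
      apply h625
      rw [← hcard]
      exact ((pow_dvd_pow 5 hcon).trans hd).trans (dvd_mul_right _ _)
    interval_cases b <;> norm_num
  have c5 : Nat.Coprime 5 (Nat.card O) := (Nat.Prime.coprime_iff_not_dvd (by norm_num)).2 hO5
  -- no element of order 35 in `N`, and `125` divides the order of `N`
  have key35 : 125 ∣ Nat.card N → (∀ z : N, orderOf z ≠ 7 * 5) → False := by
    intro h125 hno
    have i5 : Nat.Coprime 5 N.index := by
      refine (Nat.Prime.coprime_iff_not_dvd (by norm_num)).2 fun h5 => ?_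
      apply h625
      rw [← hcard]
      exact (dvd_of_eq (by norm_num)).trans ((mul_dvd_mul h125 h5).trans (dvd_mul_left _ _))
    obtain ⟨z, hz⟩ := Cfsg.Agent.H966.Der.Sit.exists_of_coprime hwK (O := O) (N := N)
      (by rw [hw, show 35 = 7 * 5 by norm_num]; exact c7.mul_left c5) hNn
      (by rw [hw, show 35 = 7 * 5 by norm_num]; exact i7.mul_left i5)
    exact hno z (by rw [hz, hw])
  -- an element of order 25 is missing
  have key25 : ∀ n : ℕ, 7 ≤ n → n < 25 → Nonempty (N ≃* alternatingGroup (Fin n)) → False := by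
    intro n hn7 hn ⟨e⟩
    have hi := index_alt hT hna hn7 e
    obtain ⟨z, hz⟩ := Cfsg.Agent.H966.Der.Sit.exists_of_coprime huK (O := O) (N := N)
      (by rw [hu, show 25 = 5 * 5 by norm_num]; exact c5.mul_left c5) hNn
      (by rw [hu]; exact Nat.Coprime.coprime_dvd_right hi (by norm_num))
    apply no_25 hn ((e z : alternatingGroup (Fin n)) : Equiv.Perm (Fin n))
    rw [Subgroup.orderOf_coe, MulEquiv.orderOf_eq, hz, hu]
  simp only [List.mem_cons, List.not_mem_nil, or_false] at hg'
  rcases hg' with rfl | rfl | rfl | rfl | rfl | rfl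
  · exact key25 11 (by norm_num) (by norm_num) hr
  · exact key25 12 (by norm_num) (by norm_num) hr
  · -- `M22`
    have hgc' : Nat.card N = 443520 := hgc
    have hi : N.index ∣ 2 := hT.index_dvd_out hna (card_mulAut_m22 hr)
    rw [← hcard, hgc'] at k25
    have h1 : 25 ∣ 443520 * N.index := (Nat.Coprime.pow_left 2 c5).dvd_of_dvd_mul_left k25
    have h2 := h1.trans (mul_dvd_mul_left _ hi)
    norm_num at h2
  · -- `J1`
    have hgc' : Nat.card N = 175560 := hgc
    have h209 : 209 ∣ Nat.card K := by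
      rw [← hcard, hgc']
      exact (by norm_num : 209 ∣ 175560).trans ((dvd_mul_right _ _).trans (dvd_mul_left _ _))
    exact absurd (Cfsg.Agent.H348.Der.exhaust_dvd c 209 [(2, 14), (3, 6), (5, 6), (7, 1)] 60
      (fun _ => false) (by decide) (by decide) chkA hK h209) (by decide)
  · -- `McL`
    have hgc' : Nat.card N = 898128000 := hgc
    exact key35 (by rw [hgc']; norm_num) (Cfsg.Agent.H966.Der.McL.no_7 hr (k := 5) (by norm_num) (by norm_num))
  · -- `HS`
    have hgc' : Nat.card N = 44352000 := hgc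
    exact key35 (by rw [hgc']; norm_num) (Cfsg.Agent.H966.Der.HS.iso_7 hr 5 (by norm_num) (by norm_num))

theorem exists_35 : ∃ w : G, orderOf w = 35 := by
  obtain ⟨x, K, hx, ⟨e⟩, hK, -⟩ := Cfsg.Agent.H845.HNSeven.hn_seven
  have h5 : Fact (Nat.Prime 5) := ⟨by norm_num⟩
  obtain ⟨k, hk⟩ := exists_prime_orderOf_dvd_card' (G := alternatingGroup (Fin 5)) 5 (by
    have h1 : 2 * Nat.card (alternatingGroup (Fin 5)) = Nat.card (Equiv.Perm (Fin 5)) := by
      rw [Nat.card_eq_fintype_card, Nat.card_eq_fintype_card]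
      exact two_mul_card_alternatingGroup
    rw [Nat.card_perm, Nat.card_fin] at h1
    have h2 : Nat.factorial 5 = 120 := by decide
    omega)
  have hk' : orderOf ((e.symm k : K) : G) = 5 := by rw [Subgroup.orderOf_coe, MulEquiv.orderOf_eq, hk]
  exact ⟨_, orderOf_mul_of_comm (r := 7) (s := 5) (by norm_num) (by norm_num) (by norm_num) hx hk'
    (hK _ (e.symm k).2).symm⟩

/-- the model -/
theorem noTwo (B : Base) (known : H257.El.Known.{0}) : NoTwo G := by
  have c := ctx B
  have := c.fin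
  have := c.simple
  have e1 : ∀ p, p.Prime → p ∣ n_hn → ∃ y : G, orderOf y = p := by
    intro p hp hd
    have := Fact.mk hp
    exact exists_prime_orderOf_dvd_card' (G := G) p (by rw [c.card]; exact hd)
  obtain ⟨x, hx⟩ := e1 19 (by norm_num) (by decide)
  obtain ⟨y, hy⟩ := e1 11 (by norm_num) (by decide)
  obtain ⟨u, hu⟩ := Cfsg.Agent.H966.Der.HN.ord_25
  obtain ⟨w, hw⟩ := exists_35
  refine noTwo_of_prime (a := 19) (x := x) (by rw [hx]) fun H K hH hK h19 => ?_
  have h11 : ¬ 11 ∣ Nat.card H := fun h => by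
    have h209 : 209 ∣ Nat.card H := Nat.Coprime.mul_dvd_of_dvd_of_dvd (by norm_num : Nat.Coprime 11 19) h h19
    exact absurd (Cfsg.Agent.H348.Der.exhaust_dvd c 209 [(2, 14), (3, 6), (5, 6), (7, 1)] 60
      (fun _ => false) (by decide) (by decide) chkA hH h209) (by decide)
  have h5 : 5 ∣ Nat.card H → Nat.card H = 3420 := fun h => by
    have h95 : 95 ∣ Nat.card H := Nat.Coprime.mul_dvd_of_dvd_of_dvd (by norm_num : Nat.Coprime 5 19) h h19
    exact Nat.eq_of_beq_eq_true (Cfsg.Agent.H348.Der.exhaust_dvd c 95 [(2, 14), (3, 6), (5, 5), (7, 1), (11, 1)] 60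
      (fun m => Nat.beq m 3420) (by decide) (by decide) chkB hH h95)
  have h25 : ¬ 25 ∣ Nat.card H := fun h => by
    rw [h5 ((by norm_num : 5 ∣ 25).trans h)] at h
    norm_num at h
  have h35 : ¬ 35 ∣ Nat.card H := fun h => by
    rw [h5 ((by norm_num : 5 ∣ 35).trans h)] at h
    norm_num at h
  by_cases k11 : 11 ∣ Nat.card K
  swap
  · exact ⟨y, av_of_card (by rw [hy]; exact h11), av_of_card (by rw [hy]; exact k11)⟩
  by_cases ku : Av u K
  · exact ⟨u, av_of_card (by rw [hu]; exact h25), ku⟩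
  by_cases kw : Av w K
  · exact ⟨w, av_of_card (by rw [hw]; exact h35), kw⟩
  exfalso
  obtain ⟨a, ha⟩ := not_av ku
  obtain ⟨b, hb⟩ := not_av kw
  have ho : ∀ a u : G, orderOf (a * u * a⁻¹) = orderOf u := fun a u =>
    orderOf_injective (MulAut.conj a).toMonoidHom (MulAut.conj a).injective u
  exact kill B known hK k11 (by rw [ho, hu]) ha (by rw [ho, hw]) hb

end HN

/-- **S2499, the Harada-Norton group** -/
theorem noTwo_hn (tab : OrderTable.{0}) (known : H257.El.Known.{0}) {T : Type} [Group T] [Finite T]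
    (h : Spor.IsoHN T) : NoTwo T := by
  obtain ⟨e⟩ := h
  exact (HN.noTwo ⟨tab, fun S _ _ hS => by
    have := hS
    exact known S⟩ known).congr e.symm

end Cfsg.Agent.H973.Cov
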