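import Cfsg.Agent.H278.Cov.Defs
import Cfsg.Agent.H257.El.Part
import Cfsg.Agent.H256.Sep.RowON
import Cfsg.Agent.H981.SCON
import Cfsg.Agent.H348.Der.ONan

/-!
# S2499 (normal 2-coverings): the group of O'Nan (helper973)

Elements of order 31; a subgroup whose order is divisible by `11 · 19` is `J₁` and has no elements of order 28.
-/

set_option autoImplicit false
set_option maxRecDepth 100000

namespace Cfsg.Agent.H973.Cov

open Cfsg Subgroup Cfsg.Agent.H278.Cov Cfsg.Agent.OrdDiv

universe u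

/-- the criterion with one isolated prime -/
theorem noTwo_of_prime {T : Type u} [Group T] {a : ℕ} {x : T} (hx : a ∣ orderOf x)
    (key : ∀ H K : Subgroup T, H ≠ ⊤ → K ≠ ⊤ → a ∣ Nat.card H → ∃ y : T, Av y H ∧ Av y K) : NoTwo T := by
  intro H K hH hK
  by_cases h1 : a ∣ Nat.card H
  · exact key H K hH hK h1
  · by_cases h2 : a ∣ Nat.card K
    · obtain ⟨y, h3, h4⟩ := key K H hK hH h2
      exact ⟨y, h4, h3⟩
    · exact ⟨x, av_of_card fun h => h1 (hx.trans h), av_of_card fun h => h2 (hx.trans h)⟩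

namespace ON

open Cfsg.Agent.H940 Cfsg.Agent.H940.Eng Cfsg.Agent.H940.Eng.D
open Cfsg.Agent.H256.Sep.RowON (G simple card fin hna)

theorem c11 {R : Subgroup G} (hR : Nat.card R = 11) :
    Nat.card (centralizer (R : Set G)) = 11 ∧ Nat.card (normalizer (R : Set G)) = 110 := by
  have := fin
  have := simple
  have := Fact.mk (show Nat.Prime 11 by norm_num)
  obtain ⟨x, hx⟩ := exists_prime_orderOf_dvd_card' (G := G) 11 (by rw [card]; decide +kernel)
  refine cn_exact hna card (r := 11) (by decide +kernel) (by decide +kernel) (fC := [(11, 1)]) (by decide +kernel)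
    (R0 := zpowers x) (by rw [Nat.card_zpowers, hx]) ?_ (by decide +kernel) hR
  rw [H904.SylOne.centralizer_zpowers_eq, Cfsg.Agent.H474.ONC.card_cent_eleven hx]
  decide +kernel

theorem c31 {R : Subgroup G} (hR : Nat.card R = 31) :
    Nat.card (centralizer (R : Set G)) = 31 ∧ Nat.card (normalizer (R : Set G)) = 465 := by
  have := fin
  have := simple
  have := Fact.mk (show Nat.Prime 31 by norm_num)
  obtain ⟨x, hx⟩ := exists_prime_orderOf_dvd_card' (G := G) 31 (by rw [card]; decide +kernel)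
  refine cn_exact hna card (r := 31) (by decide +kernel) (by decide +kernel) (fC := [(31, 1)]) (by decide +kernel)
    (R0 := zpowers x) (by rw [Nat.card_zpowers, hx]) ?_ (by decide +kernel) hR
  rw [H904.SylOne.centralizer_zpowers_eq, Cfsg.Agent.H981.SCON.sc_on x hx]
  decide +kernel

def loc : List LD := [⟨19, 19, [(2, 1), (3, 1), (19, 1)]⟩, ⟨11, 11, [(2, 1), (5, 1), (11, 1)]⟩,
  ⟨31, 31, [(3, 1), (5, 1), (31, 1)]⟩]

theorem ctx (B : Base) : Ctx G l_opn n_opn o_opn loc where
  fin := fin
  simple := simple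
  card := card
  val := v_opn
  nodup := nd_opn
  ords := ords_opn B
  loc := by
    have := fin
    have := simple
    intro ld hld
    simp only [loc, List.mem_cons, List.not_mem_nil, or_false] at hld
    rcases hld with rfl | rfl | rfl
    · exact Cfsg.Agent.H256.Sep.RowON.loc19
    · exact loc_of_eq card (by decide +kernel) (by decide +kernel) (by decide +kernel) fun R hR => by
        obtain ⟨h1, h2⟩ := c11 hR
        rw [h1, h2]; decide +kernel
    · exact loc_of_eq card (by decide +kernel) (by decide +kernel) (by decide +kernel) fun R hR => by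
        obtain ⟨h1, h2⟩ := c31 hR
        rw [h1, h2]; decide +kernel

theorem chkA : ((divsT [(2, 9), (3, 4), (5, 1), (7, 3), (11, 1), (19, 1)]).all fun d => Nat.beq (31 * d) n_opn ||
    ((!(Nat.beq ((31 * d) % 7) 0) && !(Nat.beq ((31 * d) % 11) 0) && !(Nat.beq ((31 * d) % 19) 0)) ||
      bad l_opn n_opn [] 60 loc o_opn (31 * d))) = true := by
  decide +kernel

theorem chkB : ((divsT [(2, 9), (3, 4), (5, 1), (7, 3), (31, 1)]).all fun d => Nat.beq (209 * d) n_opn ||
    (Nat.beq (209 * d) 175560 || bad l_opn n_opn [] 60 loc o_opn (209 * d))) = true := by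
  decide +kernel

theorem not_dvd_of_beq {m p : ℕ} (h : (!(Nat.beq (m % p) 0)) = true) : ¬ p ∣ m := by
  intro hd
  rw [Nat.mod_eq_zero_of_dvd hd] at h
  exact absurd h (by decide)

/-- the model -/
theorem noTwo (B : Base) : NoTwo G := by
  have c := ctx B
  have := c.fin
  have := c.simple
  have e1 : ∀ p, p.Prime → p ∣ n_opn → ∃ y : G, orderOf y = p := by
    intro p hp hd
    have := Fact.mk hp
    exact exists_prime_orderOf_dvd_card' (G := G) p (by rw [card]; exact hd)
  obtain ⟨x, hx⟩ := e1 31 (by norm_num) (by decide)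
  obtain ⟨y, hy⟩ := e1 11 (by norm_num) (by decide)
  obtain ⟨z, hz⟩ := e1 19 (by norm_num) (by decide)
  obtain ⟨w, hw⟩ : ∃ w : G, orderOf w = 28 := by
    obtain ⟨u, hu, huv⟩ := Cfsg.Agent.H866.VanON.exists_J 7 (by norm_num) (by norm_num)
    have hw := Cfsg.Agent.H866.VanON.order_mul_v (y := u) (by rw [hu]; decide) huv
    rw [hu] at hw
    exact ⟨_, hw⟩
  refine noTwo_of_prime (a := 31) (x := x) (by rw [hx]) fun H K hH hK h31 => ?_
  have h1 := Cfsg.Agent.H348.Der.exhaust_dvd c 31 [(2, 9), (3, 4), (5, 1), (7, 3), (11, 1), (19, 1)] 60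
    (fun m => !(Nat.beq (m % 7) 0) && !(Nat.beq (m % 11) 0) && !(Nat.beq (m % 19) 0)) (by decide) (by decide) chkA hH h31
  rw [Bool.and_eq_true, Bool.and_eq_true] at h1
  obtain ⟨⟨h7, h11⟩, h19⟩ := h1
  have h7' := not_dvd_of_beq h7
  have h11' := not_dvd_of_beq h11
  have h19' := not_dvd_of_beq h19
  by_cases k11 : 11 ∣ Nat.card K
  swap
  · exact ⟨y, av_of_card (by rw [hy]; exact h11'), av_of_card (by rw [hy]; exact k11)⟩
  by_cases k19 : 19 ∣ Nat.card K
  swap
  · exact ⟨z, av_of_card (by rw [hz]; exact h19'), av_of_card (by rw [hz]; exact k19)⟩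
  have k209 : 209 ∣ Nat.card K := Nat.Coprime.mul_dvd_of_dvd_of_dvd (by norm_num : Nat.Coprime 11 19) k11 k19
  have h2 := Nat.eq_of_beq_eq_true (Cfsg.Agent.H348.Der.exhaust_dvd c 209 [(2, 9), (3, 4), (5, 1), (7, 3), (31, 1)] 60
    (fun m => Nat.beq m 175560) (by decide) (by decide) chkB hK k209)
  refine ⟨w, av_of_card (by rw [hw]; exact fun h => h7' ((by norm_num : 7 ∣ 28).trans h)), ?_⟩
  apply Av.of_pow (n := 7)
  apply av_of_order
  intro r hr
  have h3 := Cfsg.Agent.H348.Der.ONRow.not_four_of_card B h2 ⟨r, hr⟩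
  rw [Subgroup.orderOf_mk] at h3
  have h4 : orderOf (w ^ 7) = 4 := by
    rw [orderOf_pow_of_dvd (by norm_num) (by rw [hw]; norm_num), hw]
  rw [h4]
  exact h3

end ON

/-- **S2499, the group of O'Nan** -/
theorem noTwo_on (tab : OrderTable.{0}) (known : H257.El.Known.{0}) {T : Type} [Group T] [Finite T]
    (h : Spor.IsoON T) : NoTwo T := by
  obtain ⟨e⟩ := h
  exact (ON.noTwo ⟨tab, fun S _ _ hS => by
    have := hS
    exact known S⟩).congr e.symm

end Cfsg.Agent.H973.Cov
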